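/-
A group has one 2-block if the centralisers of its involutions have one and no character has
2-defect zero.
-/
import Cfsg.Agent.S4487
import Cfsg.Agent.S4717
import Cfsg.Agent.S4733
import Cfsg.Agent.Lib.Blocks.ThreePrimes
import Cfsg.Agent.Lib.Blocks.Principal

set_option autoImplicit false
set_option linter.style.haveILetI false

namespace CfsgOneBlock

open Cfsg CfsgLib.Blocks

/-- A normal subgroup of exponent two containing its centraliser forces one block. -/
theorem sameBlock_of_selfcent {M : Ideal AlgInt} (hM : IsPModular 2 M) {C : Type} [Group C] [Finite C]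
    (E : Subgroup C) [E.Normal] (hE : ∀ x ∈ E, x * x = 1)
    (hc : Subgroup.centralizer (E : Set C) ≤ E) (χ ψ : IrrCharacter C) :
    SameBlock M (χ : C → ℂ) (ψ : C → ℂ) := by
  haveI : Fact (Nat.Prime 2) := ⟨Nat.prime_two⟩
  have hE2 : IsPGroup 2 E := fun x => ⟨1, Subtype.ext (by
    rw [pow_one, SubgroupClass.coe_pow, pow_two]; exact hE _ x.2)⟩
  have hle : E ≤ pCore 2 C := CfsgLib.le_pCore hE2
  refine Cfsg.Agent.S4487.result 2 M hM ?_ ((Subgroup.centralizer_le hle).trans (hc.trans hle)) χ ψ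
  refine le_bot_iff.mp (sSup_le fun K ⟨hKn, hKc⟩ k hk => ?_)
  haveI := hKn
  have hinf : K ⊓ E = ⊥ := by
    obtain ⟨n, hn⟩ := hE2.exists_card_eq
    have hdE : Nat.card ↥(K ⊓ E) ∣ Nat.card E := Subgroup.card_dvd_of_le inf_le_right
    rw [hn] at hdE
    exact Subgroup.card_eq_one.mp (Nat.eq_one_of_dvd_coprimes (hKc.pow_right n)
      (Subgroup.card_dvd_of_le inf_le_left) hdE)
  have hkE : k ∈ E := hc fun e he =>
    (Subgroup.commute_of_normal_of_disjoint K E hKn inferInstance (disjoint_iff.mpr hinf) k e hk he).symm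
  have : k ∈ K ⊓ E := Subgroup.mem_inf.mpr ⟨hk, hkE⟩
  rwa [hinf] at this

/-- The criterion. -/
theorem one_block {M : Ideal AlgInt} (hM : IsPModular 2 M) {G : Type} [Group G] [Fintype G] {a : ℕ}
    (ha : (Nat.card G).factorization 2 = a)
    (hcent : ∀ y : G, orderOf y = 2 → ∀ χ ψ : IrrCharacter (Subgroup.centralizer ({y} : Set G)),
      SameBlock M (χ : Subgroup.centralizer ({y} : Set G) → ℂ) (ψ : Subgroup.centralizer ({y} : Set G) → ℂ))
    (hno : ∀ (χ : IrrCharacter G) (d : ℕ), (χ : G → ℂ) 1 = d → d ∣ Nat.card G → 2 ^ a ∣ d →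
      (∀ g : G, 2 ∣ orderOf g → (χ : G → ℂ) g = 0) → False)
    (χ ψ : IrrCharacter G) : SameBlock M (χ : G → ℂ) (ψ : G → ℂ) := by
  classical
  haveI : Fact (Nat.Prime 2) := ⟨Nat.prime_two⟩
  suffices hall : ∀ φ : IrrCharacter G, blockOf M (φ : G → ℂ) = principalBlock M G by
    refine sameBlock_of_mem hM principalBlock_isPBlock ?_ ?_
    · rw [← hall χ]; exact mem_blockOf_self hM χ
    · rw [← hall ψ]; exact mem_blockOf_self hM ψ
  intro φ
  by_contra hne
  have hlt : blockDefect 2 (blockOf M (φ : G → ℂ)) < 1 := by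
    refine (Cfsg.Agent.S4717.result 2 M hM 1).2 one_pos (fun y hy B' hB' hne' => ?_) _
      (blockOf_isPBlock φ) hne
    haveI := Fintype.ofFinite (Subgroup.centralizer ({y} : Set G))
    obtain ⟨ξ, hξ⟩ := block_nonempty hM hB'
    refine absurd ?_ hne'
    rw [eq_blockOf hM hB' hξ]
    exact (eq_blockOf hM principalBlock_isPBlock
      (show ξ ∈ principalBlock M _ from hcent y hy (oneIrr _) ξ)).symm
  have hmem := mem_blockOf_self hM φ
  have hcard := ((Cfsg.Agent.S4733.result 2 M hM _ (blockOf_isPBlock φ)).2.1.1 (Nat.lt_one_iff.1 hlt)).1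
  have hsing : blockOf M (φ : G → ℂ) = {φ} := by
    obtain ⟨hs, -⟩ := Nat.card_eq_one_iff_unique.1 hcard
    exact Set.eq_singleton_iff_unique_mem.2
      ⟨hmem, fun ψ hψ => congrArg Subtype.val (@Subsingleton.elim _ hs ⟨ψ, hψ⟩ ⟨φ, hmem⟩)⟩
  have hdv := (defect_zero_iff hM φ).2 hsing
  refine hno φ (charDegree (φ : G → ℂ)) (irr_charDegree_cast φ).symm ?_ ?_
    (fun g hg => ThreePrimes.vanish_of_defZero hM φ hdv hg)
  · obtain ⟨m, ρ, hirr, hρ⟩ := φ.2
    haveI := hirr
    have h := CfsgLib.CharTheory.finrank_dvd_card ρ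
    have e : (charDegree (φ : G → ℂ) : ℂ) = (Module.finrank ℂ (Fin m → ℂ) : ℂ) := by
      rw [irr_charDegree_cast, ← hρ, Representation.char_one]
    rwa [Nat.cast_inj.1 e]
  · rw [← ha, ← hdv]
    exact Nat.ordProj_dvd _ 2

end CfsgOneBlock
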