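/-
Every centraliser of an involution in the groups of the code has one 2-block.
-/
import Cfsg.Agent.Lib.OneBlock.Criterion
import Cfsg.Agent.Lib.Golay.ElemCent
import Cfsg.Agent.Lib.Golay.OctInvol
import Cfsg.Agent.Lib.Golay.SextGroup
import Cfsg.Agent.Lib.Golay.Index253

set_option autoImplicit false
set_option linter.style.haveILetI false

namespace CfsgOneBlock

open Cfsg CfsgGolay
open scoped Pointwise

attribute [local irreducible] codeL octadL dodecadL slpCodes

/-- One block from an elementary abelian subgroup of the centraliser. -/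
theorem sameBlock_cent {M : Ideal AlgInt} (hM : IsPModular 2 M) {G : Subgroup (Equiv.Perm GolayPt)} (y : G)
    (N : Subgroup (Equiv.Perm GolayPt)) (hN1 : N ≤ G)
    (hN2 : ∀ n ∈ N, n * y = y * n ∧ n * n = 1)
    (hnorm : ∀ g ∈ G, g * (y : Equiv.Perm GolayPt) = y * g → ∀ n ∈ N, g * n * g⁻¹ ∈ N)
    (hsq : ∀ g ∈ G, g * (y : Equiv.Perm GolayPt) = y * g → (∀ n ∈ N, g * n = n * g) → g * g = 1)
    (χ ψ : IrrCharacter (Subgroup.centralizer ({y} : Set G))) :
    SameBlock M (χ : Subgroup.centralizer ({y} : Set G) → ℂ)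
      (ψ : Subgroup.centralizer ({y} : Set G) → ℂ) := by
  have hcom : ∀ c : Subgroup.centralizer ({y} : Set G),
      ((c : G) : Equiv.Perm GolayPt) * y = y * (c : G) := fun c =>
    congrArg Subtype.val (Subgroup.mem_centralizer_singleton_iff.1 c.2)
  set E : Subgroup (Subgroup.centralizer ({y} : Set G)) :=
    (Subgroup.centralizer (N : Set (Equiv.Perm GolayPt))).comap
      (G.subtype.comp (Subgroup.centralizer ({y} : Set G)).subtype) with hE
  have hmem : ∀ c, c ∈ E ↔ ∀ n ∈ N, n * ((c : G) : Equiv.Perm GolayPt) = (c : G) * n := fun c => Iff.rfl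
  haveI : E.Normal := ⟨fun e he c => (hmem _).2 fun n hn => by
    have h1 := hnorm _ (inv_mem (c : G).2)
      ((Commute.inv_left (hcom c : Commute ((c : G) : Equiv.Perm GolayPt) y)).eq) n hn
    rw [inv_inv] at h1
    have h2 := (hmem e).1 he _ h1
    set a : Equiv.Perm GolayPt := ((c : G) : Equiv.Perm GolayPt)
    set b : Equiv.Perm GolayPt := ((e : G) : Equiv.Perm GolayPt)
    show n * (a * b * a⁻¹) = a * b * a⁻¹ * n
    calc n * (a * b * a⁻¹) = a * (a⁻¹ * n * a * b) * a⁻¹ := by group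
      _ = a * (b * (a⁻¹ * n * a)) * a⁻¹ := by rw [h2]
      _ = a * b * a⁻¹ * n := by group⟩
  refine sameBlock_of_selfcent hM E (fun e he => ?_) (fun c hc => (hmem c).2 fun n hn => ?_) χ ψ
  · exact Subtype.ext (Subtype.ext (hsq _ (e : G).2 (hcom e) fun n hn => ((hmem e).1 he n hn).symm))
  · have hnC : (⟨n, hN1 hn⟩ : G) ∈ Subgroup.centralizer ({y} : Set G) :=
      Subgroup.mem_centralizer_singleton_iff.2 (Subtype.ext (hN2 n hn).1)
    have hnE : (⟨⟨n, hN1 hn⟩, hnC⟩ : Subgroup.centralizer ({y} : Set G)) ∈ E := (hmem _).2 fun m hm => by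
      have hi : ∀ a ∈ N, a⁻¹ = a := fun a ha => inv_eq_of_mul_eq_one_right (hN2 a ha).2
      show m * n = n * m
      conv_lhs => rw [← hi _ (mul_mem hm hn), mul_inv_rev, hi m hm, hi n hn]
    exact congrArg (fun u : Subgroup.centralizer ({y} : Set G) => ((u : G) : Equiv.Perm GolayPt)) (hc _ hnE)

theorem fixOct_transitive {o : Finset GolayPt} (ho : o ∈ octads) {p q : GolayPt} (hp : p ∉ o) (hq : q ∉ o) :
    ∃ u ∈ fixOct o, u p = q := by
  classical
  obtain ⟨-, hbot, hfull⟩ := card_octPt ho hp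
  have hUle : fixOct o ≤ stabM o := hfull ▸ le_sup_left
  have h1 := card_inf_stab (H := fixOct o) p
  have hst : fixOct o ⊓ MulAction.stabilizer (Equiv.Perm GolayPt) p = ⊥ :=
    le_bot_iff.mp (le_trans (fun x hx => Subgroup.mem_inf.mpr ⟨hx.1, Subgroup.mem_inf.mpr ⟨hUle hx.1, hx.2⟩⟩)
      hbot.le)
  rw [hst, Subgroup.card_bot, (card_fixOct ho).1] at h1
  have hsub : MulAction.orbit (fixOct o) p ⊆ ((oᶜ : Finset GolayPt) : Set GolayPt) := by
    rintro _ ⟨⟨u, hu⟩, rfl⟩
    refine Finset.mem_coe.mpr (Finset.mem_compl.mpr fun hc => hp ?_)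
    change u p ∈ o at hc
    have := (mem_fixingSubgroup_iff _).mp hu.2 _ (Finset.mem_coe.mpr hc)
    rwa [u.injective this] at hc
  have horb := Set.eq_of_subset_of_ncard_le hsub (by
    rw [Set.ncard_coe_finset, Finset.card_compl, card_of_mem_octads ho, Fintype.card_option, ZMod.card]
    omega) (Set.toFinite _)
  obtain ⟨⟨u, hu⟩, e⟩ := horb.ge (Finset.mem_coe.mpr (Finset.mem_compl.mpr hq))
  exact ⟨u, hu, e⟩

theorem fixOct_comm {o : Finset GolayPt} (ho : o ∈ octads) {a b : Equiv.Perm GolayPt} (ha : a ∈ fixOct o)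
    (hb : b ∈ fixOct o) : a * b = b * a := by
  have hi : ∀ x ∈ fixOct o, x⁻¹ = x := fun x hx => inv_eq_of_mul_eq_one_right ((card_fixOct ho).2 x hx)
  conv_lhs => rw [← hi _ (mul_mem ha hb), mul_inv_rev, hi a ha, hi b hb]

/-- The pointwise stabiliser of an octad is its own centraliser in the octad's stabiliser. -/
theorem fixOct_selfcent {o : Finset GolayPt} (ho : o ∈ octads) {g : Equiv.Perm GolayPt} (hg : g ∈ M24)
    (hgo : g • o = o) (hc : ∀ u ∈ fixOct o, g * u = u * g) : g ∈ fixOct o := by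
  obtain ⟨p, hp⟩ := exists_notMem_octad ho
  have hgp : g p ∉ o := fun h => hp (by rw [← hgo, pt_mem_smul] at h; exact h)
  obtain ⟨u, hu, hup⟩ := fixOct_transitive ho hp hgp
  have hk : u⁻¹ * g = 1 := by
    refine eq_one_of_fix_compl ho (mul_mem (inv_mem hu.1) hg) fun q hq => ?_
    obtain ⟨v, hv, rfl⟩ := fixOct_transitive ho hp hq
    have h1 : g (v p) = v (g p) := congrArg (fun k : Equiv.Perm GolayPt => k p) (hc v hv)
    have h2 : u⁻¹ * v = v * u⁻¹ := fixOct_comm ho (inv_mem hu) hv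
    calc (u⁻¹ * g) (v p) = (u⁻¹ * v) (g p) := by rw [Equiv.Perm.mul_apply, Equiv.Perm.mul_apply, h1]
      _ = v p := by rw [h2, Equiv.Perm.mul_apply, ← hup]; simp
  rw [inv_mul_eq_one.mp hk] at hu
  exact hu

/-- The centraliser of an involution fixing an octad, in any group containing that octad's pointwise
stabiliser. -/
theorem sameBlock_oct {M : Ideal AlgInt} (hM : IsPModular 2 M) {G : Subgroup (Equiv.Perm GolayPt)}
    (hG : G ≤ M24) (y : G) (ho : fixF (y : Equiv.Perm GolayPt) ∈ octads)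
    (hle : fixOct (fixF (y : Equiv.Perm GolayPt)) ≤ G)
    (χ ψ : IrrCharacter (Subgroup.centralizer ({y} : Set G))) :
    SameBlock M (χ : Subgroup.centralizer ({y} : Set G) → ℂ)
      (ψ : Subgroup.centralizer ({y} : Set G) → ℂ) := by
  set z : Equiv.Perm GolayPt := (y : Equiv.Perm GolayPt)
  have hz : z ∈ fixOct (fixF z) :=
    ⟨hG y.2, (mem_fixingSubgroup_iff _).mpr fun q hq => mem_fixF.mp (Finset.mem_coe.mp hq)⟩
  have hst : ∀ g : Equiv.Perm GolayPt, g * z = z * g → g • fixF z = fixF z := fun g h => by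
    rw [smul_set_pts, ← fixF_conj, h, mul_inv_cancel_right]
  refine sameBlock_cent hM y (fixOct (fixF z)) hle
    (fun n hn => ⟨fixOct_comm ho hn hz, (card_fixOct ho).2 n hn⟩) (fun g hg hgy n hn => ?_)
    (fun g hg hgy hc => (card_fixOct ho).2 g (fixOct_selfcent ho (hG hg) (hst g hgy) hc)) χ ψ
  refine ⟨M24.mul_mem (M24.mul_mem (hG hg) hn.1) (M24.inv_mem (hG hg)), (mem_fixingSubgroup_iff _).mpr fun q hq => ?_⟩
  have h1 : g⁻¹ q ∈ fixF z := by
    have h := hst g hgy
    rw [← h] at hq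
    obtain ⟨r, hr, rfl⟩ := Finset.mem_smul_finset.mp (Finset.mem_coe.mp hq)
    simpa using hr
  show (g * n * g⁻¹) q = q
  rw [Equiv.Perm.mul_apply, Equiv.Perm.mul_apply,
    show n (g⁻¹ q) = g⁻¹ q from (mem_fixingSubgroup_iff _).mp hn.2 _ h1]
  simp

/-- The fixed points of the coded elements separate the orbits. -/
def patOK (B : List ℕ) : Bool :=
  (List.range 24).all fun i => (List.range 24).all fun j =>
    (((List.range 64).map fun n => fixedMask (elW B n)).any fun m => m.testBit i != m.testBit j) ||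
      (List.range 64).any fun n => Nat.beq (papp (elW B n) i) j

theorem sxN_checked : patOK sxN = true ∧
    (sxN.all fun c => Nat.beq (pcomp e2B c) (pcomp c e2B)) = true := by decide +kernel

theorem sxN_sq {g : Equiv.Perm GolayPt} (hc : ∀ n ∈ elGr sxN, g * n = n * g) : g * g = 1 := by
  refine Equiv.ext fun p => ?_
  have hperm := (elOK_data sxN_ok.1).2.1
  have h := sxN_checked.1
  simp only [patOK, List.all_eq_true, List.mem_range, Bool.or_eq_true, List.any_eq_true, List.mem_map] at h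
  rcases h (idx p) (idx_lt p) (idx (g p)) (idx_lt _) with ⟨m, ⟨n, -, rfl⟩, hb⟩ | ⟨n, -, hb⟩
  · exfalso
    obtain ⟨u, hu, hr⟩ := elW_repr sxN (fun c hcm => (hperm c hcm).1) n
    rw [bne_iff_ne] at hb
    apply hb
    have e : ∀ q, (fixedMask (elW sxN n)).testBit (idx q) = true ↔ u q = q := fun q => by
      rw [← mem_toSet, ← fixF_repr hr, mem_fixF]
    rw [Bool.eq_iff_iff, e, e]
    have hug : u (g p) = g (u p) := (congrArg (fun k : Equiv.Perm GolayPt => k p) (hc u hu)).symm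
    exact ⟨fun h1 => by rw [hug, h1], fun h1 => g.injective (hug.symm.trans h1)⟩
  · obtain ⟨u, hu, hr⟩ := elW_repr sxN (fun c hcm => (hperm c hcm).1) n
    have hup : u p = g p := idx_injective (by rw [hr]; exact Nat.eq_of_beq_eq_true hb)
    show g (g p) = p
    conv_lhs => rw [← hup]
    rw [show g (u p) = u (g p) from congrArg (fun k : Equiv.Perm GolayPt => k p) (hc u hu), ← hup,
      ← Equiv.Perm.mul_apply, elGr_invol sxN_ok.1 hu, Equiv.Perm.one_apply]

theorem sxN_comm {n : Equiv.Perm GolayPt} (hn : n ∈ elGr sxN) : n * r2B = r2B * n := by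
  have hle : elGr sxN ≤ Subgroup.centralizer ({r2B} : Set (Equiv.Perm GolayPt)) := by
    rw [elGr, Subgroup.closure_le]
    rintro g ⟨c, hc, hg⟩
    rw [SetLike.mem_coe, Subgroup.mem_centralizer_singleton_iff]
    have := Nat.eq_of_beq_eq_true (List.all_eq_true.mp sxN_checked.2 c hc)
    exact ((this ▸ good_2B.1.comp hg).unique (hg.comp good_2B.1)).symm
  exact Subgroup.mem_centralizer_singleton_iff.mp (hle hn)

/-- The centraliser of a fixed-point-free involution. -/
theorem sameBlock_fpf {M : Ideal AlgInt} (hM : IsPModular 2 M) (y : M24) {k : Equiv.Perm GolayPt}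
    (hk : k ∈ M24) (hky : k * (y : Equiv.Perm GolayPt) * k⁻¹ = r2B)
    (χ ψ : IrrCharacter (Subgroup.centralizer ({y} : Set M24))) :
    SameBlock M (χ : Subgroup.centralizer ({y} : Set M24) → ℂ)
      (ψ : Subgroup.centralizer ({y} : Set M24) → ℂ) := by
  set z : Equiv.Perm GolayPt := (y : Equiv.Perm GolayPt)
  have hz : z = k⁻¹ * r2B * k := by rw [← hky]; group
  refine sameBlock_cent hM y ((elGr sxN).map (MulAut.conj k⁻¹).toMonoidHom) ?_ ?_ ?_ ?_ χ ψ
  · rintro _ ⟨n, hn, rfl⟩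
    simpa using mul_mem (mul_mem (inv_mem hk) (elGr_le sxN_ok.1 hn)) hk
  · rintro _ ⟨n, hn, rfl⟩
    simp only [MulEquiv.coe_toMonoidHom, MulAut.conj_apply, inv_inv]
    show k⁻¹ * n * k * z = z * (k⁻¹ * n * k) ∧ _
    refine ⟨?_, ?_⟩
    · rw [hz]
      calc k⁻¹ * n * k * (k⁻¹ * r2B * k) = k⁻¹ * (n * r2B) * k := by group
        _ = k⁻¹ * (r2B * n) * k := by rw [sxN_comm hn]
        _ = k⁻¹ * r2B * k * (k⁻¹ * n * k) := by group
    · rw [show k⁻¹ * n * k * (k⁻¹ * n * k) = k⁻¹ * (n * n) * k by group, elGr_invol sxN_ok.1 hn]; group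
  · rintro g hg hgy _ ⟨n, hn, rfl⟩
    have hg' : k * g * k⁻¹ ∈ Gr gS := by
      rw [stabS.1]; exact cent_2B_le ((centM_conj hk hky).mp ⟨hg, hgy⟩)
    refine ⟨_, elGr_normal gS_ok sxN_ok.1 sxN_ok.2.1 hg' hn, ?_⟩
    simp only [MulEquiv.coe_toMonoidHom, MulAut.conj_apply]
    group
  · intro g hg hgy hc
    have h1 : k * g * k⁻¹ * (k * g * k⁻¹) = 1 := sxN_sq fun n hn => by
      have h2 := hc (k⁻¹ * n * k) ⟨n, hn, by simp⟩
      calc k * g * k⁻¹ * n = k * (g * (k⁻¹ * n * k)) * k⁻¹ := by group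
        _ = k * (k⁻¹ * n * k * g) * k⁻¹ := by rw [h2]
        _ = n * (k * g * k⁻¹) := by group
    calc g * g = k⁻¹ * (k * g * k⁻¹ * (k * g * k⁻¹)) * k := by group
      _ = 1 := by rw [h1]; group

/-- Every centraliser of an involution in the group of the code. -/
theorem sameBlock_M24 {M : Ideal AlgInt} (hM : IsPModular 2 M) (y : M24) (hy : orderOf y = 2)
    (χ ψ : IrrCharacter (Subgroup.centralizer ({y} : Set M24))) :
    SameBlock M (χ : Subgroup.centralizer ({y} : Set M24) → ℂ)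
      (ψ : Subgroup.centralizer ({y} : Set M24) → ℂ) := by
  have ho : orderOf (y : Equiv.Perm GolayPt) = 2 := by rw [Subgroup.orderOf_coe, hy]
  by_cases hfix : ∃ x, (y : Equiv.Perm GolayPt) x = x
  · obtain ⟨x, hx⟩ := hfix
    exact sameBlock_oct hM le_rfl y (CfsgM23Sub.fix_two y.2 ho hx).1 inf_le_left χ ψ
  · push Not at hfix
    obtain ⟨k, hk, hky⟩ := class_2B y.2 ho (by rw [fixF_empty_iff.mpr hfix]; norm_num)
    exact sameBlock_fpf hM y hk hky χ ψ

/-- Every centraliser of an involution in the two-point stabiliser. -/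
theorem sameBlock_M22 {M : Ideal AlgInt} (hM : IsPModular 2 M) (y : Spor.M22) (hy : orderOf y = 2)
    (χ ψ : IrrCharacter (Subgroup.centralizer ({y} : Set Spor.M22))) :
    SameBlock M (χ : Subgroup.centralizer ({y} : Set Spor.M22) → ℂ)
      (ψ : Subgroup.centralizer ({y} : Set Spor.M22) → ℂ) := by
  have ho : orderOf (y : Equiv.Perm GolayPt) = 2 := by rw [Subgroup.orderOf_coe, hy]
  have hsub : Spor.M22 ≤ M24 := inf_le_left.trans inf_le_left
  have h1 : (y : Equiv.Perm GolayPt) none = none := y.2.1.2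
  have h2 : (y : Equiv.Perm GolayPt) (some 0) = some 0 := y.2.2
  refine sameBlock_oct hM hsub y (CfsgM23Sub.fix_two (hsub y.2) ho h1).1 (fun n hn => ?_) χ ψ
  refine Subgroup.mem_inf.mpr ⟨Subgroup.mem_inf.mpr ⟨hn.1, ?_⟩, ?_⟩
  · exact (mem_fixingSubgroup_iff _).mp hn.2 _ (Finset.mem_coe.mpr (mem_fixF.mpr h1))
  · exact (mem_fixingSubgroup_iff _).mp hn.2 _ (Finset.mem_coe.mpr (mem_fixF.mpr h2))

end CfsgOneBlock
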