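/-
Norm bounds for a character vanishing on the elements of even order, summed over conjugates
of cyclic subgroups of prime order.
-/
import Mathlib.RepresentationTheory.Character
import Mathlib.Analysis.SpecialFunctions.Complex.CircleAddChar
import Mathlib.NumberTheory.LegendreSymbol.AddCharacter
import Cfsg.Agent.Lib.Blocks.CentralDefect
import Cfsg.Agent.Lib.Golay.Index56

set_option autoImplicit false
set_option linter.style.haveILetI false

namespace CfsgOneBlock

open Cfsg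
open scoped ComplexConjugate

variable {G : Type} [Group G]

/-- The integral inequality behind the bound. -/
theorem sq_sum_bound {ι : Type*} (s : Finset ι) (n : ι → ℕ) {p : ℕ} (hp : 0 < p) (hs : s.card = p) :
    (((∑ j ∈ s, n j) % p : ℕ) : ℝ) * ((p : ℝ) - (((∑ j ∈ s, n j) % p : ℕ) : ℝ)) ≤
      (p : ℝ) * ∑ j ∈ s, (n j : ℝ) ^ 2 - (∑ j ∈ s, (n j : ℝ)) ^ 2 := by
  set N := ∑ j ∈ s, n j with hN
  set a := N / p
  have hN' : (∑ j ∈ s, (n j : ℝ)) = (a : ℝ) * p + ((N % p : ℕ) : ℝ) := by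
    rw [← Nat.cast_sum, ← hN]
    exact_mod_cast (Nat.div_add_mod' N p).symm
  have h0 : (0 : ℝ) ≤ ∑ j ∈ s, ((n j : ℝ) - a) * ((n j : ℝ) - a - 1) := by
    refine Finset.sum_nonneg fun j _ => ?_
    rcases Nat.lt_or_ge a (n j) with h | h
    · have : (a : ℝ) + 1 ≤ n j := by exact_mod_cast h
      exact mul_nonneg (by linarith) (by linarith)
    · have : (n j : ℝ) ≤ a := by exact_mod_cast h
      exact mul_nonneg_of_nonpos_of_nonpos (by linarith) (by linarith)
  have h1 : ∑ j ∈ s, ((n j : ℝ) - a) * ((n j : ℝ) - a - 1) =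
      ∑ j ∈ s, (n j : ℝ) ^ 2 - (2 * a + 1) * ∑ j ∈ s, (n j : ℝ) + (p : ℝ) * (a * (a + 1)) := by
    rw [Finset.mul_sum, ← Finset.sum_sub_distrib, ← hs, ← nsmul_eq_mul, ← Finset.sum_const,
      ← Finset.sum_add_distrib]
    exact Finset.sum_congr rfl fun j _ => by ring
  rw [h1] at h0
  rw [hN']
  rw [hN'] at h0
  nlinarith [mul_nonneg (Nat.cast_nonneg p : (0 : ℝ) ≤ p) h0]

variable [Fintype G]

theorem exists_rep (χ : IrrCharacter G) :
    ∃ (m : ℕ) (ρ : Representation ℂ G (Fin m → ℂ)), ρ.character = (χ : G → ℂ) := by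
  obtain ⟨m, ρ, -, h⟩ := χ.2
  exact ⟨m, ρ, h⟩

/-- Fourier coefficients along a cyclic subgroup are multiples of the order of a centralising
`2`-group. -/
theorem exists_mult (χ : IrrCharacter G) (hv : ∀ g : G, 2 ∣ orderOf g → (χ : G → ℂ) g = 0) {p : ℕ}
    [Fact p.Prime] (hp2 : p ≠ 2) {x : G} (hx : orderOf x = p) (Q : Subgroup G) (hQ : IsPGroup 2 Q)
    (hc : ∀ u ∈ Q, Commute x u) {ψ : AddChar (ZMod p) ℂ} (j : ZMod p) :
    ∃ n : ℕ, ∑ i : ZMod p, ψ (-(i * j)) * (χ : G → ℂ) (x ^ i.val) =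
      ((p * Nat.card Q : ℕ) : ℂ) * n := by
  classical
  obtain ⟨m, ρ, hρ⟩ := exists_rep χ
  have hadd : ∀ a b : ZMod p, x ^ (a + b).val = x ^ a.val * x ^ b.val := fun a b => by
    rw [← pow_add, pow_eq_pow_iff_modEq, hx, ZMod.val_add]
    exact Nat.mod_modEq _ _
  let φ : Multiplicative (ZMod p) × Q →* G :=
    { toFun := fun a => x ^ (Multiplicative.toAdd a.1).val * (a.2 : G)
      map_one' := by simp
      map_mul' := fun a b => by
        rw [Prod.fst_mul, Prod.snd_mul, toAdd_mul, hadd, Subgroup.coe_mul,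
          ((hc _ a.2.2).pow_left _).symm.mul_mul_mul_comm] }
  let l : Multiplicative (ZMod p) × Q →* ℂ :=
    { toFun := fun a => ψ (-(Multiplicative.toAdd a.1 * j))
      map_one' := by simp
      map_mul' := fun a b => by
        rw [Prod.fst_mul, toAdd_mul, add_mul, neg_add, AddChar.map_add_eq_mul] }
  let σ : Representation ℂ (Multiplicative (ZMod p) × Q) (Fin m → ℂ) :=
    { toFun := fun a => l a • ρ (φ a)
      map_one' := by rw [map_one, map_one, map_one, one_smul]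
      map_mul' := fun a b => by rw [map_mul, map_mul, map_mul, smul_mul_smul_comm] }
  haveI : Fintype Q := Fintype.ofFinite Q
  haveI : Invertible (Nat.card (Multiplicative (ZMod p) × Q) : ℂ) :=
    invertibleOfNonzero (Nat.cast_ne_zero.2 Nat.card_pos.ne')
  have h := σ.card_inv_mul_sum_char_eq_finrank
  refine ⟨Module.finrank ℂ σ.invariants, ?_⟩
  rw [inv_mul_eq_iff_eq_mul₀ (Nat.cast_ne_zero.2 Nat.card_pos.ne')] at h
  rw [Nat.card_prod, show Nat.card (Multiplicative (ZMod p)) = p by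
    rw [Nat.card_congr Multiplicative.toAdd, Nat.card_zmod]] at h
  rw [← h, Fintype.sum_prod_type]
  refine Fintype.sum_equiv Multiplicative.ofAdd _ _ fun i => ?_
  have hchar : ∀ u : Q, σ.character (Multiplicative.ofAdd i, u) =
      ψ (-(i * j)) * (χ : G → ℂ) (x ^ i.val * (u : G)) := fun u => by
    show LinearMap.trace ℂ _ (l _ • ρ (φ _)) = _
    rw [map_smul, smul_eq_mul, ← hρ]
    rfl
  rw [Finset.sum_eq_single (1 : Q)]
  · rw [hchar]; simp
  · intro u _ hu
    rw [hchar, hv, mul_zero]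
    have hne : orderOf (u : G) ≠ 1 := fun e => hu (Subtype.ext (orderOf_eq_one_iff.1 e))
    obtain ⟨k, hk⟩ := IsPGroup.iff_orderOf.1 hQ u
    rw [← Subgroup.orderOf_coe] at hk
    have h2 : 2 ∣ orderOf (u : G) := by
      rcases k with _ | k
      · exact absurd (by simpa using hk) hne
      · rw [hk]; exact dvd_pow_self 2 (Nat.succ_ne_zero k)
    have hco : (orderOf (x ^ i.val)).Coprime (orderOf (u : G)) := by
      rw [hk]
      refine Nat.Coprime.pow_right k ?_
      refine Nat.Coprime.coprime_dvd_left ?_ (show p.Coprime 2 from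
        (Nat.coprime_primes Fact.out Nat.prime_two).2 hp2)
      have := orderOf_pow_dvd (x := x) i.val
      rwa [hx] at this
    rw [((hc _ u.2).pow_left _).orderOf_mul_eq_mul_orderOf_of_coprime hco]
    exact h2.mul_left _
  · simp

/-- The nontrivial powers of an element. -/
noncomputable def ptsOf (x : G) : Finset G := by
  classical exact Finset.univ.filter fun y => y ∈ Subgroup.zpowers x ∧ y ≠ 1

theorem mem_ptsOf {x y : G} : y ∈ ptsOf x ↔ y ∈ Subgroup.zpowers x ∧ y ≠ 1 := by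
  classical simp [ptsOf]

/-- The norm bound on a cyclic subgroup of prime order. -/
theorem cyclic_bound (χ : IrrCharacter G) (hv : ∀ g : G, 2 ∣ orderOf g → (χ : G → ℂ) g = 0)
    {d : ℕ} (hd : (χ : G → ℂ) 1 = d) {p : ℕ} [Fact p.Prime] (hp2 : p ≠ 2) {x : G} (hx : orderOf x = p)
    (Q : Subgroup G) (hQ : IsPGroup 2 Q) (hc : ∀ u ∈ Q, Commute x u) {q : ℕ} (hq : Nat.card Q = q) :
    ((q : ℝ) ^ 2 * (((d / q) % p : ℕ) : ℝ) * ((p : ℝ) - (((d / q) % p : ℕ) : ℝ))) ≤
      ∑ y ∈ ptsOf x, Complex.normSq ((χ : G → ℂ) y) := by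
  classical
  have hp0 : 0 < p := (Fact.out : p.Prime).pos
  have hq0 : 0 < q := hq ▸ Nat.card_pos
  set ψ : AddChar (ZMod p) ℂ := ZMod.stdAddChar with hψ
  have hprim : ψ.IsPrimitive := ZMod.isPrimitive_stdAddChar p
  set c : ZMod p → ℂ := fun i => (χ : G → ℂ) (x ^ i.val) with hcdef
  choose n hn using fun j => exists_mult χ hv hp2 hx Q hQ hc (ψ := ψ) j
  rw [hq] at hn
  have horth : ∀ b : ZMod p, ∑ j, ψ (j * b) = if b = 0 then (p : ℂ) else 0 := fun b => by
    rw [AddChar.sum_mulShift b hprim, ZMod.card]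
    split_ifs <;> simp
  -- the sum of the coefficients
  have h1 : ((p * q : ℕ) : ℂ) * ∑ j, (n j : ℂ) = (p : ℂ) * d := by
    rw [Finset.mul_sum]
    simp only [← hn]
    rw [Finset.sum_comm]
    rw [Finset.sum_eq_single (0 : ZMod p)]
    · simp [hd]
    · intro i _ hi
      rw [← Finset.sum_mul]
      simp only [show ∀ j : ZMod p, -(i * j) = j * -i from fun j => by ring, horth,
        if_neg (neg_ne_zero.2 hi), zero_mul]
    · simp
  have hN : q * (∑ j, n j) = d := by
    have : p * q * (∑ j, n j) = p * d := by exact_mod_cast h1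
    rw [mul_assoc] at this
    exact Nat.eq_of_mul_eq_mul_left hp0 this
  -- the sum of their squares
  have hψc : ∀ t : ZMod p, conj (ψ t) = ψ (-t) := fun t => (AddChar.map_neg_eq_conj ψ t).symm
  have h2 : ((p * q : ℕ) : ℂ) ^ 2 * ∑ j, (n j : ℂ) ^ 2 = (p : ℂ) * ∑ i, c i * conj (c i) := by
    rw [Finset.mul_sum, Finset.mul_sum]
    calc ∑ j, ((p * q : ℕ) : ℂ) ^ 2 * (n j : ℂ) ^ 2
        = ∑ j, (∑ i, ψ (-(i * j)) * c i) * conj (∑ k, ψ (-(k * j)) * c k) :=
          Finset.sum_congr rfl fun j _ => by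
            rw [hn j, map_mul, map_natCast, map_natCast]; ring
      _ = ∑ j, ∑ i, ∑ k, (c i * conj (c k)) * ψ (j * (k - i)) := by
          refine Finset.sum_congr rfl fun j _ => ?_
          rw [map_sum, Finset.sum_mul_sum]
          refine Finset.sum_congr rfl fun i _ => Finset.sum_congr rfl fun k _ => ?_
          rw [map_mul, hψc, show j * (k - i) = -(i * j) + -(-(k * j)) by ring, AddChar.map_add_eq_mul]
          ring
      _ = ∑ i, ∑ k, (c i * conj (c k)) * ∑ j, ψ (j * (k - i)) := by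
          rw [Finset.sum_comm]
          refine Finset.sum_congr rfl fun i _ => ?_
          rw [Finset.sum_comm]
          exact Finset.sum_congr rfl fun k _ => (Finset.mul_sum _ _ _).symm
      _ = ∑ i, (p : ℂ) * (c i * conj (c i)) := by
          refine Finset.sum_congr rfl fun i _ => ?_
          rw [Finset.sum_eq_single i]
          · rw [horth, if_pos (sub_self i)]; ring
          · intro k _ hk; rw [horth, if_neg (sub_ne_zero.2 hk), mul_zero]
          · simp
  simp only [Complex.mul_conj] at h2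
  rw [← Complex.ofReal_sum] at h2
  have h2' : ((p * q : ℕ) : ℝ) ^ 2 * ∑ j, (n j : ℝ) ^ 2 = (p : ℝ) * ∑ i, Complex.normSq (c i) := by
    exact_mod_cast h2
  -- the nontrivial powers
  have hpts : ∑ y ∈ ptsOf x, Complex.normSq ((χ : G → ℂ) y) =
      ∑ i ∈ (Finset.univ : Finset (ZMod p)).erase 0, Complex.normSq (c i) := by
    symm
    refine Finset.sum_bij (fun i _ => x ^ i.val) ?_ ?_ ?_ (fun _ _ => rfl)
    · intro i hi
      refine mem_ptsOf.2 ⟨pow_mem (Subgroup.mem_zpowers x) _, fun e => (Finset.mem_erase.1 hi).1 ?_⟩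
      have h3 := orderOf_dvd_of_pow_eq_one e
      rw [hx] at h3
      exact (ZMod.val_eq_zero i).1 (Nat.eq_zero_of_dvd_of_lt h3 i.val_lt)
    · intro a _ b _ e
      rw [pow_inj_mod, hx, Nat.mod_eq_of_lt a.val_lt, Nat.mod_eq_of_lt b.val_lt] at e
      exact ZMod.val_injective p e
    · intro y hy
      obtain ⟨hy1, hy2⟩ := mem_ptsOf.1 hy
      rw [mem_zpowers_iff_mem_range_orderOf, hx, Finset.mem_image] at hy1
      obtain ⟨k, hk, rfl⟩ := hy1
      have hk' : ((k : ZMod p)).val = k := ZMod.val_natCast_of_lt (Finset.mem_range.1 hk)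
      refine ⟨(k : ZMod p), Finset.mem_erase.2 ⟨fun e => hy2 ?_, Finset.mem_univ _⟩, by rw [hk']⟩
      have := congrArg ZMod.val e
      rw [hk', ZMod.val_zero] at this
      rw [this, pow_zero]
  have h0 : Complex.normSq (c 0) = (d : ℝ) ^ 2 := by
    simp [hcdef, hd, sq]
  have hb := sq_sum_bound (Finset.univ : Finset (ZMod p)) n hp0 (by rw [Finset.card_univ, ZMod.card])
  have hdq : d / q = ∑ j, n j := by rw [← hN, Nat.mul_div_cancel_left _ hq0]
  have hsplit := Finset.add_sum_erase (Finset.univ : Finset (ZMod p)) (fun i => Complex.normSq (c i))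
    (Finset.mem_univ 0)
  have hdR : (q : ℝ) * ∑ j, (n j : ℝ) = d := by exact_mod_cast hN
  rw [hpts, hdq]
  have hmain : ∑ i, Complex.normSq (c i) = (q : ℝ) ^ 2 * ((p : ℝ) * ∑ j, (n j : ℝ) ^ 2) := by
    have hp' : (p : ℝ) ≠ 0 := by exact_mod_cast hp0.ne'
    apply mul_left_cancel₀ hp'
    rw [← h2']
    push_cast
    ring
  have hkey : ∑ i ∈ (Finset.univ : Finset (ZMod p)).erase 0, Complex.normSq (c i) =
      (q : ℝ) ^ 2 * ((p : ℝ) * ∑ j, (n j : ℝ) ^ 2 - (∑ j, (n j : ℝ)) ^ 2) := by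
    rw [h0, hmain, ← hdR] at hsplit
    linarith [hsplit]
  rw [hkey]
  calc _ = (q : ℝ) ^ 2 * ((((∑ j, n j) % p : ℕ) : ℝ) * ((p : ℝ) - (((∑ j, n j) % p : ℕ) : ℝ))) := by ring
    _ ≤ _ := mul_le_mul_of_nonneg_left hb (sq_nonneg _)

/-- The sum of the squared absolute values over the elements of a given order. -/
noncomputable def ordSum (χ : IrrCharacter G) (n : ℕ) : ℝ :=
  ∑ g ∈ Finset.univ.filter (fun g : G => orderOf g = n), Complex.normSq ((χ : G → ℂ) g)

theorem ordSum_nonneg (χ : IrrCharacter G) (n : ℕ) : 0 ≤ ordSum χ n :=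
  Finset.sum_nonneg fun _ _ => Complex.normSq_nonneg _

theorem ordSum_one (χ : IrrCharacter G) {d : ℕ} (hd : (χ : G → ℂ) 1 = d) : ordSum χ 1 = (d : ℝ) ^ 2 := by
  classical
  rw [ordSum, show Finset.univ.filter (fun g : G => orderOf g = 1) = {1} by ext; simp,
    Finset.sum_singleton, hd, Complex.normSq_natCast, sq]

theorem sum_ordSum_le (χ : IrrCharacter G) (s : Finset ℕ) :
    ∑ n ∈ s, ordSum χ n ≤ (Nat.card G : ℝ) := by
  classical
  rw [← CfsgLib.Blocks.sum_normSq_irr χ]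
  simp only [ordSum]
  rw [Finset.sum_fiberwise_eq_sum_filter Finset.univ s (fun g : G => orderOf g)
    (fun g => Complex.normSq ((χ : G → ℂ) g))]
  exact Finset.sum_le_sum_of_subset_of_nonneg (Finset.filter_subset _ _)
    fun _ _ _ => Complex.normSq_nonneg _

theorem zpowers_eq_of_mem {p : ℕ} [Fact p.Prime] {x y : G} (hx : orderOf x = p)
    (hy : y ∈ Subgroup.zpowers x) (h1 : y ≠ 1) : Subgroup.zpowers y = Subgroup.zpowers x := by
  refine Subgroup.eq_of_le_of_card_ge (Subgroup.zpowers_le.2 hy) ?_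
  rw [Nat.card_zpowers, Nat.card_zpowers, hx]
  refine le_of_eq (orderOf_eq_prime ?_ h1).symm
  obtain ⟨k, rfl⟩ := Subgroup.mem_zpowers_iff.1 hy
  rw [← hx, ← zpow_natCast, ← zpow_mul, mul_comm, zpow_mul, zpow_natCast, pow_orderOf_eq_one, one_zpow]

/-- Summing over the conjugates of a cyclic subgroup of prime order. -/
theorem conj_count (χ : IrrCharacter G) {p : ℕ} [Fact p.Prime] {x : G} (hx : orderOf x = p) {B : ℕ}
    (hB : Nat.card (Subgroup.normalizer (Subgroup.zpowers x : Set G)) ≤ B) :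
    (Nat.card G : ℝ) * ∑ y ∈ ptsOf x, Complex.normSq ((χ : G → ℂ) y) ≤ (B : ℝ) * ordSum χ p := by
  classical
  set f : G → ℝ := fun g => Complex.normSq ((χ : G → ℂ) g) with hf
  have hfc : ∀ g y : G, f (g * y * g⁻¹) = f y := fun g y => by
    simp only [hf, CfsgLib.Blocks.irr_isClassFun χ y g]
  have hord : ∀ y ∈ ptsOf x, orderOf y = p := fun y hy => by
    obtain ⟨h1, h2⟩ := mem_ptsOf.1 hy
    rw [← Nat.card_zpowers, zpowers_eq_of_mem hx h1 h2, Nat.card_zpowers, hx]
  set S := (Finset.univ : Finset G) ×ˢ ptsOf x with hS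
  have hmaps : ∀ a ∈ S, a.1 * a.2 * a.1⁻¹ ∈ Finset.univ.filter (fun g : G => orderOf g = p) := by
    intro a ha
    refine Finset.mem_filter.2 ⟨Finset.mem_univ _, ?_⟩
    rw [← MulAut.conj_apply, (MulAut.conj a.1).orderOf_eq]
    exact hord _ (Finset.mem_product.1 ha).2
  have h1 : (Nat.card G : ℝ) * ∑ y ∈ ptsOf x, f y = ∑ a ∈ S, f (a.1 * a.2 * a.1⁻¹) := by
    rw [hS, Finset.sum_product]
    simp only [hfc, Finset.sum_const, Finset.card_univ, nsmul_eq_mul, Nat.card_eq_fintype_card]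
  show (Nat.card G : ℝ) * ∑ y ∈ ptsOf x, f y ≤ _
  rw [h1, ← Finset.sum_fiberwise_of_maps_to hmaps, ordSum, Finset.mul_sum]
  refine Finset.sum_le_sum fun z _ => ?_
  rw [Finset.sum_congr rfl (g := fun _ => f z) (fun a ha => by rw [(Finset.mem_filter.1 ha).2]),
    Finset.sum_const, nsmul_eq_mul]
  refine mul_le_mul_of_nonneg_right ?_ (Complex.normSq_nonneg _)
  refine Nat.cast_le.2 (le_trans ?_ hB)
  rcases (S.filter fun a => a.1 * a.2 * a.1⁻¹ = z).eq_empty_or_nonempty with h | ⟨⟨g₀, y₀⟩, h₀⟩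
  · rw [h]; simp
  obtain ⟨hy₀, hz₀⟩ := Finset.mem_filter.1 h₀
  obtain ⟨hy₀P, hy₀1⟩ := mem_ptsOf.1 (Finset.mem_product.1 hy₀).2
  haveI : Fintype (Subgroup.normalizer (Subgroup.zpowers x : Set G)) := Fintype.ofFinite _
  rw [Nat.card_eq_fintype_card, ← Fintype.card_coe]
  refine Fintype.card_le_of_injective (fun a => ⟨g₀⁻¹ * a.1.1, ?_⟩) ?_
  · obtain ⟨ha, hz⟩ := Finset.mem_filter.1 a.2
    obtain ⟨hP, h1'⟩ := mem_ptsOf.1 (Finset.mem_product.1 ha).2
    have heq : a.1.1 * a.1.2 * a.1.1⁻¹ = g₀ * y₀ * g₀⁻¹ := hz.trans hz₀.symm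
    have hmap : (Subgroup.zpowers x).map (MulAut.conj (g₀⁻¹ * a.1.1)).toMonoidHom =
        Subgroup.zpowers x := by
      have e : g₀⁻¹ * a.1.1 * a.1.2 * (g₀⁻¹ * a.1.1)⁻¹ = y₀ :=
        calc _ = g₀⁻¹ * (a.1.1 * a.1.2 * a.1.1⁻¹) * g₀ := by group
          _ = g₀⁻¹ * (g₀ * y₀ * g₀⁻¹) * g₀ := by rw [heq]
          _ = y₀ := by group
      have h3 := CfsgM22Sub.conj_zpowers (x := a.1.2) (g := g₀⁻¹ * a.1.1)
      rw [e, zpowers_eq_of_mem hx hP h1', zpowers_eq_of_mem hx hy₀P hy₀1] at h3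
      exact h3
    refine Subgroup.mem_normalizer_iff.2 fun w => ?_
    constructor
    · exact fun hw => hmap.le ⟨w, hw, rfl⟩
    · intro hw
      obtain ⟨v, hv, e⟩ := hmap.ge hw
      exact (MulAut.conj _).injective e ▸ hv
  · intro a b e
    have e1 : a.1.1 = b.1.1 := mul_left_cancel (congrArg Subtype.val e)
    have ha := (Finset.mem_filter.1 a.2).2
    have hb := (Finset.mem_filter.1 b.2).2
    have h3 := ha.trans hb.symm
    rw [e1] at h3
    exact Subtype.ext (Prod.ext e1 (mul_left_cancel (mul_right_cancel h3)))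

/-- The two bounds combined. -/
theorem prime_bound (χ : IrrCharacter G) (hv : ∀ g : G, 2 ∣ orderOf g → (χ : G → ℂ) g = 0)
    {d : ℕ} (hd : (χ : G → ℂ) 1 = d) {p : ℕ} [Fact p.Prime] (hp2 : p ≠ 2) {x : G} (hx : orderOf x = p)
    (Q : Subgroup G) (hQ : IsPGroup 2 Q) (hc : ∀ u ∈ Q, Commute x u) {q : ℕ} (hq : Nat.card Q = q)
    {B : ℕ} (hB : Nat.card (Subgroup.normalizer (Subgroup.zpowers x : Set G)) ≤ B) :
    (Nat.card G : ℝ) * ((q : ℝ) ^ 2 * (((d / q) % p : ℕ) : ℝ) * ((p : ℝ) - (((d / q) % p : ℕ) : ℝ)))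
      ≤ (B : ℝ) * ordSum χ p :=
  le_trans (mul_le_mul_of_nonneg_left (cyclic_bound χ hv hd hp2 hx Q hQ hc hq) (Nat.cast_nonneg _))
    (conj_count χ hx hB)

omit [Fintype G] in
/-- Divisibility of the normaliser's order by means of the centraliser. -/
theorem norm_card_dvd [Finite G] {x : G} {p m : ℕ} (hp : p.Prime) (hx : orderOf x = p)
    (hm : Nat.card (Subgroup.centralizer ({x} : Set G)) ∣ m) :
    Nat.card (Subgroup.normalizer (Subgroup.zpowers x : Set G)) ∣ m * (p - 1) := by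
  classical
  set Z := Subgroup.zpowers x with hZ
  set φ := Z.normalizerMonoidHom with hφ
  rw [← φ.ker.card_mul_index, Subgroup.index_ker]
  refine Nat.mul_dvd_mul (dvd_trans ?_ hm) ?_
  · have hle : φ.ker.map (Subgroup.normalizer (Z : Set G)).subtype ≤ Subgroup.centralizer ({x} : Set G) := by
      rintro _ ⟨k, hk, rfl⟩
      rw [hφ, Subgroup.normalizerMonoidHom_ker] at hk
      exact Subgroup.mem_centralizer_singleton_iff.2
        ((Subgroup.mem_centralizer_iff.1 (Subgroup.mem_subgroupOf.1 hk)) x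
          (Subgroup.mem_zpowers x)).symm
    have := Subgroup.card_dvd_of_le hle
    rwa [Subgroup.card_subtype] at this
  · haveI : Finite (MulAut Z) := Finite.of_injective (fun e : MulAut Z => (e : Z → Z)) DFunLike.coe_injective
    have := Subgroup.card_subgroup_dvd_card φ.range
    have hcZ : Nat.card Z = p := by rw [hZ, Nat.card_zpowers, hx]
    rwa [IsCyclic.card_mulAut, hcZ, Nat.totient_prime hp] at this

omit [Fintype G] in
/-- A bound for the normaliser from the centraliser and Sylow's congruence. -/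
theorem norm_le_of_cent [Finite G] {x : G} {p m N B : ℕ} (hp : p.Prime) (hx : orderOf x = p)
    (hN : Nat.card G = N) (h2 : ¬ p ^ 2 ∣ N)
    (hm : Nat.card (Subgroup.centralizer ({x} : Set G)) ∣ m) (hm0 : 0 < m * (p - 1))
    (hchk : ∀ e < m * (p - 1) + 1, e ∣ m * (p - 1) → N / e % p = 1 → e ≤ B) :
    Nat.card (Subgroup.normalizer (Subgroup.zpowers x : Set G)) ≤ B := by
  obtain ⟨k, hk, hk1⟩ := CfsgM22Sub.sylow_ratio (H := (⊤ : Subgroup G)) (Subgroup.mem_top x) hp hx
    (by rwa [Subgroup.card_top, hN])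
  rw [top_inf_eq, Subgroup.card_top, hN] at hk
  have hd := norm_card_dvd hp hx hm
  refine hchk _ (Nat.lt_succ_of_le (Nat.le_of_dvd hm0 hd)) hd ?_
  rw [hk, Nat.mul_div_cancel_left _ Nat.card_pos]
  exact hk1

end CfsgOneBlock
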