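/-
Elements of prime order in the groups of the code, with the orders of their centralisers.
-/
import Cfsg.Agent.Lib.OneBlock.Counting
import Cfsg.Agent.Lib.Golay.L223
import Cfsg.Agent.Lib.Golay.ElemCent
import Cfsg.Agent.Lib.Golay.Mathieu

set_option autoImplicit false
set_option linter.style.haveILetI false

namespace CfsgOneBlock

open Cfsg CfsgGolay
open scoped Pointwise

attribute [local irreducible] codeL octadL dodecadL slpCodes CfsgM22Sub.eA cC CfsgGolay.r7

theorem cent_card_sub {G : Subgroup (Equiv.Perm GolayPt)} (y : G) :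
    Nat.card (Subgroup.centralizer ({y} : Set G)) =
      Nat.card ↥(G ⊓ Subgroup.centralizer ({(y : Equiv.Perm GolayPt)} : Set (Equiv.Perm GolayPt))) := by
  have h : (Subgroup.centralizer ({y} : Set G)).map G.subtype =
      G ⊓ Subgroup.centralizer ({(y : Equiv.Perm GolayPt)} : Set (Equiv.Perm GolayPt)) := by
    ext g
    simp only [Subgroup.mem_map, Subgroup.mem_inf, Subgroup.mem_centralizer_singleton_iff]
    exact ⟨fun ⟨k, hk, e⟩ => e ▸ ⟨k.2, congrArg Subtype.val hk⟩,
      fun ⟨h1, h2⟩ => ⟨⟨g, h1⟩, Subtype.ext h2, rfl⟩⟩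
  rw [← h, Subgroup.card_subtype]

/-- The element of order eleven. -/
noncomputable abbrev a11 : Equiv.Perm GolayPt := permDec CfsgM22Sub.eA
/-- The element of order five. -/
noncomputable abbrev b5 : Equiv.Perm GolayPt := permDec cC

theorem a11_data : a11 ∈ Spor.M22 ∧ orderOf a11 = 11 ∧ Repr CfsgM22Sub.eA a11 := by
  obtain ⟨hall, pA, -, -, nA, -, -, -, -, -, -, -, -, -, -, -, -, -, ltA, -⟩ := CfsgM22Sub.checked
  obtain ⟨ra, ma⟩ := CfsgM22Sub.elem (List.all_eq_true.mp hall _ (by simp : CfsgM22Sub.eA ∈ _))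
  exact ⟨M22_eq.symm ▸ ma, CfsgM22Sub.order_of (by norm_num) ra pA nA ltA, ra⟩

theorem b5_data : b5 ∈ Spor.M22 ∧ orderOf b5 = 5 ∧ Repr cC b5 := by
  obtain ⟨hall, -, pB, -, -, nB, -, -, -, -, -, -, -, -, -, -, -, -, -, ltB⟩ := CfsgM22Sub.checked
  obtain ⟨rb, mb⟩ := CfsgM22Sub.elem (List.all_eq_true.mp hall _ (by simp : cC ∈ _))
  exact ⟨M22_eq.symm ▸ mb, CfsgM22Sub.order_of (by norm_num) rb pB nB ltB, rb⟩

theorem M22_le : Spor.M22 ≤ M24 := inf_le_left.trans inf_le_left

theorem cent22_a11 :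
    Nat.card ↥(Spor.M22 ⊓ Subgroup.centralizer ({a11} : Set (Equiv.Perm GolayPt))) ∣ 11 := by
  have h := Subgroup.card_dvd_of_le (H := Spor.M22 ⊓ Subgroup.centralizer ({a11} : Set (Equiv.Perm GolayPt)))
    (K := Subgroup.zpowers a11) fun g hg => CfsgM22Sub.centA (M22_eq ▸ (Subgroup.mem_inf.mp hg).1)
      (Subgroup.mem_centralizer_singleton_iff.mp (Subgroup.mem_inf.mp hg).2)
  rwa [Nat.card_zpowers, a11_data.2.1] at h

theorem cent22_b5 :
    Nat.card ↥(Spor.M22 ⊓ Subgroup.centralizer ({b5} : Set (Equiv.Perm GolayPt))) ∣ 5 := by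
  have h := Subgroup.card_dvd_of_le (H := Spor.M22 ⊓ Subgroup.centralizer ({b5} : Set (Equiv.Perm GolayPt)))
    (K := Subgroup.zpowers b5) fun g hg => CfsgM22Sub.centB5 (M22_eq ▸ (Subgroup.mem_inf.mp hg).1)
      (Subgroup.mem_centralizer_singleton_iff.mp (Subgroup.mem_inf.mp hg).2)
  rwa [Nat.card_zpowers, b5_data.2.1] at h

/-- Extending a centraliser from the two-point stabiliser. -/
theorem cent_dvd {a : Equiv.Perm GolayPt} {m : ℕ} (ha : a ∈ Spor.M22) {k : ℕ} (hk : (fixF a).card = k)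
    (hm : Nat.card ↥(Spor.M22 ⊓ Subgroup.centralizer ({a} : Set (Equiv.Perm GolayPt))) ∣ m) :
    Nat.card ↥(centM a) ∣ m * k.factorial := by
  classical
  have hinv : ∀ g : centM a, ∀ x, (g : Equiv.Perm GolayPt) x ∈ fixF a ↔ x ∈ fixF a := fun g x => by
    have h := congrArg (fun k : Equiv.Perm GolayPt => k x) (mem_centM.mp g.2).2
    simp only [Equiv.Perm.mul_apply] at h
    rw [mem_fixF, mem_fixF, ← h]
    exact ⟨fun e => (g : Equiv.Perm GolayPt).injective e, fun e => by rw [e]⟩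
  let r : centM a →* Equiv.Perm ↥(fixF a) :=
    { toFun := fun g => (g : Equiv.Perm GolayPt).subtypePerm fun x => hinv g x
      map_one' := by ext x; rfl
      map_mul' := fun g h => by ext x; rfl }
  rw [← r.ker.card_mul_index, Subgroup.index_ker]
  refine Nat.mul_dvd_mul ?_ ?_
  · refine dvd_trans ?_ hm
    rw [← Subgroup.card_subtype (centM a) r.ker]
    refine Subgroup.card_dvd_of_le ?_
    rintro _ ⟨g, hg, rfl⟩
    have hfix : ∀ x ∈ fixF a, (g : Equiv.Perm GolayPt) x = x := fun x hx =>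
      congrArg (fun e : Equiv.Perm ↥(fixF a) => ((e ⟨x, hx⟩ : ↥(fixF a)) : GolayPt)) (MonoidHom.mem_ker.mp hg)
    refine Subgroup.mem_inf.mpr ⟨Subgroup.mem_inf.mpr ⟨Subgroup.mem_inf.mpr ⟨(mem_centM.mp g.2).1, ?_⟩, ?_⟩,
      Subgroup.mem_centralizer_singleton_iff.mpr (mem_centM.mp g.2).2⟩
    · exact hfix none (mem_fixF.mpr ha.1.2)
    · exact hfix (some 0) (mem_fixF.mpr ha.2)
  · refine (Subgroup.card_subgroup_dvd_card r.range).trans (dvd_of_eq ?_)
    rw [Nat.card_perm, Nat.card_eq_fintype_card, Fintype.card_coe, hk]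

theorem fix_a11 : (fixF a11).card = 2 := by
  rw [fixF_repr a11_data.2.2, card_toSet]; decide +kernel

theorem fix_b5 : (fixF b5).card = 4 := CfsgM23Sub.fix_five (M22_le b5_data.1) b5_data.2.1

theorem cent24_a11 : Nat.card ↥(centM a11) ∣ 22 := cent_dvd a11_data.1 fix_a11 cent22_a11

theorem cent24_b5 : Nat.card ↥(centM b5) ∣ 120 := cent_dvd b5_data.1 fix_b5 cent22_b5

theorem cent24_23 : Nat.card ↥(centM CfsgL223.tT) ∣ 23 := by
  have hle : centM CfsgL223.tT ≤ Subgroup.zpowers CfsgL223.tT := by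
    intro g hg
    obtain ⟨-, hc⟩ := mem_centM.mp hg
    have happ : ∀ x, g (CfsgL223.tT x) = CfsgL223.tT (g x) := fun x =>
      congrArg (fun k : Equiv.Perm GolayPt => k x) hc
    have hnone : g none = none := by
      have h := happ none
      rw [show CfsgL223.tT none = none from rfl] at h
      rcases hx : g none with _ | t
      · rfl
      · rw [hx] at h
        have h' := h
        simp [CfsgL223.tT] at h'
        exact absurd h' (by decide)
    have hpow : ∀ n : ℕ, ∀ t : ZMod 23, (CfsgL223.tT ^ n) (some t) = some (t + n) := by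
      intro n
      induction n with
      | zero => intro t; simp
      | succ n ih =>
        intro t
        rw [pow_succ', Equiv.Perm.mul_apply, ih]
        simp [CfsgL223.tT, add_assoc]
    obtain ⟨k, hk⟩ : ∃ k, g (some 0) = some k := by
      rcases hx : g (some 0) with _ | k
      · exact absurd (g.injective (hx.trans hnone.symm)) (by simp)
      · exact ⟨k, rfl⟩
    have hg : g = CfsgL223.tT ^ k.val := by
      refine Equiv.ext fun x => ?_
      rcases x with _ | t
      · rw [hnone]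
        have : ∀ n : ℕ, (CfsgL223.tT ^ n) none = none := fun n => by
          induction n with
          | zero => simp
          | succ n ih => rw [pow_succ', Equiv.Perm.mul_apply, ih]; rfl
        rw [this]
      · have h1 : (CfsgL223.tT ^ t.val) (some 0) = some t := by rw [hpow]; simp
        have h2 : g * CfsgL223.tT ^ t.val = CfsgL223.tT ^ t.val * g :=
          (Commute.pow_right (show Commute g CfsgL223.tT from hc) _).eq
        conv_lhs => rw [← h1, ← Equiv.Perm.mul_apply, h2, Equiv.Perm.mul_apply, hk, hpow]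
        rw [hpow]
        simp [add_comm]
    rw [hg]
    exact Subgroup.npow_mem_zpowers _ _
  have h := Subgroup.card_dvd_of_le hle
  rwa [Nat.card_zpowers, CfsgL223.order_T] at h

/-- The centralisers of elements of order seven. -/
theorem cent24_7 {x : Equiv.Perm GolayPt} (hx : x ∈ M24) (ho : orderOf x = 7) :
    Nat.card ↥(centM x) ∣ 42 := by
  haveI : Fact (Nat.Prime 7) := ⟨by norm_num⟩
  have hf : (Nat.card M24).factorization 7 = 1 := card_M24_facts.2.2
  let P : Sylow 7 M24 := Sylow.ofCard (Subgroup.zpowers (⟨x, hx⟩ : M24))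
    (by rw [Nat.card_zpowers, Subgroup.orderOf_mk, ho, hf, pow_one])
  let Q : Sylow 7 M24 := Sylow.ofCard (Subgroup.zpowers (⟨r7, mem_r7⟩ : M24))
    (by rw [Nat.card_zpowers, Subgroup.orderOf_mk, order_7, hf, pow_one])
  obtain ⟨k, hk⟩ := MulAction.exists_smul_eq M24 P Q
  have hmap : (Subgroup.zpowers (⟨x, hx⟩ : M24)).map (MulAut.conj k).toMonoidHom =
      Subgroup.zpowers (⟨r7, mem_r7⟩ : M24) := congrArg Sylow.toSubgroup hk
  rw [CfsgM22Sub.conj_zpowers] at hmap
  obtain ⟨j, hj⟩ : (⟨r7, mem_r7⟩ : M24) ∈ Subgroup.zpowers (k * (⟨x, hx⟩ : M24) * k⁻¹) :=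
    hmap.symm ▸ Subgroup.mem_zpowers _
  have hj' : ((k : Equiv.Perm GolayPt) * x * (k : Equiv.Perm GolayPt)⁻¹) ^ j = r7 := by
    have h := congrArg Subtype.val hj
    simpa only [Subgroup.coe_zpow, Subgroup.coe_mul, Subgroup.coe_inv] using h
  have hle : (centM x).map (MulAut.conj (k : Equiv.Perm GolayPt)).toMonoidHom ≤ centM r7 := by
    rintro _ ⟨g, hg, rfl⟩
    obtain ⟨hgM, hgc⟩ := mem_centM.mp hg
    refine mem_centM.mpr ⟨mul_mem (mul_mem k.2 hgM) (inv_mem k.2), ?_⟩
    rw [← hj']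
    refine (Commute.zpow_right ?_ j).eq
    show MulAut.conj (k : Equiv.Perm GolayPt) g * MulAut.conj (k : Equiv.Perm GolayPt) x =
      MulAut.conj (k : Equiv.Perm GolayPt) x * MulAut.conj (k : Equiv.Perm GolayPt) g
    rw [← map_mul, hgc, map_mul]
  have h := Subgroup.card_dvd_of_le hle
  rwa [card_cent_7, ← Nat.card_congr ((centM x).equivMapOfInjective _
    (MulAut.conj (k : Equiv.Perm GolayPt)).injective).toEquiv] at h

theorem cent22_7 {x : Equiv.Perm GolayPt} (hx : x ∈ Spor.M22) (ho : orderOf x = 7) :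
    Nat.card ↥(Spor.M22 ⊓ Subgroup.centralizer ({x} : Set (Equiv.Perm GolayPt))) ∣ 7 := by
  classical
  haveI : Fact (Nat.Prime 7) := ⟨by norm_num⟩
  set C := Spor.M22 ⊓ Subgroup.centralizer ({x} : Set (Equiv.Perm GolayPt)) with hC
  have h42 : Nat.card C ∣ 42 := (Subgroup.card_dvd_of_le (le_inf (inf_le_left.trans M22_le) inf_le_right :
    C ≤ centM x)).trans (cent24_7 (M22_le hx) ho)
  have h3 := CfsgM23Sub.fix_seven (M22_le hx) ho
  have key : ∀ t ∈ C, ((fixF t).card = 8 ∨ (fixF t).card = 6) → False := by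
    intro t ht hcard
    obtain ⟨htM, htc⟩ := Subgroup.mem_inf.mp ht
    have hc : t * x = x * t := Subgroup.mem_centralizer_singleton_iff.mp htc
    have hS : ∀ q, q ∈ fixF t ↔ x q ∈ fixF t := fun q => by
      rw [mem_fixF, mem_fixF, ← Equiv.Perm.mul_apply, hc, Equiv.Perm.mul_apply]
      exact ⟨fun e => by rw [e], fun e => x.injective e⟩
    have hmod := CfsgM23Sub.card_mod (ho ▸ pow_orderOf_eq_one x) hS
    have hhi : (fixF t ∩ fixF x).card ≤ 3 := h3 ▸ Finset.card_le_card Finset.inter_subset_right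
    have hlo : 2 ≤ (fixF t ∩ fixF x).card := by
      rw [← Finset.card_pair (show (none : GolayPt) ≠ some 0 by simp)]
      refine Finset.card_le_card fun q hq => ?_
      simp only [Finset.mem_insert, Finset.mem_singleton] at hq
      rcases hq with rfl | rfl
      · exact Finset.mem_inter.mpr ⟨mem_fixF.mpr htM.1.2, mem_fixF.mpr hx.1.2⟩
      · exact Finset.mem_inter.mpr ⟨mem_fixF.mpr htM.2, mem_fixF.mpr hx.2⟩
    omega
  have hn2 : ¬ 2 ∣ Nat.card C := fun h => by
    haveI : Fact (Nat.Prime 2) := ⟨Nat.prime_two⟩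
    obtain ⟨⟨t, ht⟩, hto⟩ := exists_prime_orderOf_dvd_card' (G := C) 2 h
    rw [Subgroup.orderOf_mk] at hto
    exact key t ht (Or.inl (CfsgM23Sub.fix_two (M22_le (Subgroup.mem_inf.mp ht).1) hto
      (Subgroup.mem_inf.mp ht).1.1.2).2)
  have hn3 : ¬ 3 ∣ Nat.card C := fun h => by
    haveI : Fact (Nat.Prime 3) := ⟨by norm_num⟩
    obtain ⟨⟨t, ht⟩, hto⟩ := exists_prime_orderOf_dvd_card' (G := C) 3 h
    rw [Subgroup.orderOf_mk] at hto
    have hne : (fixF t).card ≠ 0 := fun h0 =>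
      fixF_empty_iff.mp h0 none (Subgroup.mem_inf.mp ht).1.1.2
    obtain ⟨k, -, hk⟩ := class_3A (M22_le (Subgroup.mem_inf.mp ht).1) hto hne
    exact key t ht (Or.inr (by rw [← card_fixF_conj k t, hk, card_fix_3A]))
  exact (by decide : ∀ d < 43, d ∣ 42 → ¬ 2 ∣ d → ¬ 3 ∣ d → d ∣ 7) _
    (Nat.lt_succ_of_le (Nat.le_of_dvd (by norm_num) h42)) h42 hn2 hn3

/-- Two commuting involutions centralising the element of order five. -/
def vA : ℕ := 651245563028962197159478659450418563
/-- The second one. -/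
def vB : ℕ := 140255779635515492312832132057374383

theorem v4_checked : (permOK vA && gensKept vA && permOK vB && gensKept vB) = true ∧
    Nat.beq (pcomp vA cC) (pcomp cC vA) = true ∧ Nat.beq (pcomp vB cC) (pcomp cC vB) = true ∧
    Nat.beq (pcomp vA vB) (pcomp vB vA) = true ∧ Nat.beq (ppow vA 2) pid = true ∧
    Nat.beq (ppow vB 2) pid = true ∧ Nat.beq vA pid = false ∧ Nat.beq vB pid = false ∧
    Nat.beq vA vB = false ∧ vA < 2 ^ 120 ∧ vB < 2 ^ 120 := by decide +kernel

attribute [local irreducible] vA vB pcomp ppow permDec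

theorem v4_exists : ∃ Q : Subgroup M24, IsPGroup 2 Q ∧ Nat.card Q = 4 ∧
    ∀ u ∈ Q, Commute (⟨b5, M22_le b5_data.1⟩ : M24) u := by
  haveI : Fact (Nat.Prime 2) := ⟨Nat.prime_two⟩
  obtain ⟨h0, cA, cB, cAB, pA, pB, nA, nB, nAB, lA, lB⟩ := v4_checked
  simp only [Bool.and_eq_true] at h0
  obtain ⟨⟨⟨okA, keptA⟩, okB⟩, keptB⟩ := h0
  obtain ⟨rA, mA⟩ := rep_spec ⟨okA, keptA⟩
  obtain ⟨rB, mB⟩ := rep_spec ⟨okB, keptB⟩
  have rb := b5_data.2.2
  have hcA : permDec vA * b5 = b5 * permDec vA :=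
    ((Nat.eq_of_beq_eq_true cA) ▸ rA.comp rb).unique (rb.comp rA)
  have hcB : permDec vB * b5 = b5 * permDec vB :=
    ((Nat.eq_of_beq_eq_true cB) ▸ rB.comp rb).unique (rb.comp rB)
  have hcAB : permDec vA * permDec vB = permDec vB * permDec vA :=
    ((Nat.eq_of_beq_eq_true cAB) ▸ rA.comp rB).unique (rB.comp rA)
  have oA := CfsgM22Sub.order_of Nat.prime_two rA pA nA lA
  have oB := CfsgM22Sub.order_of Nat.prime_two rB pB nB lB
  have hne : permDec vA ≠ permDec vB := fun e => by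
    have := permDec_injOn ⟨lA, _, rA⟩ ⟨lB, _, rB⟩ e
    rw [this] at nAB
    simp at nAB
  generalize permDec vA = A at hcA hcAB oA hne mA
  generalize permDec vB = B at hcB hcAB oB hne mB
  have hcom : ∀ (m : Subgroup.zpowers (⟨A, mA⟩ : M24)) (n : Subgroup.zpowers (⟨B, mB⟩ : M24)),
      Commute (m : M24) (n : M24) := fun m n => by
    obtain ⟨i, hi⟩ := m.2
    obtain ⟨j, hj⟩ := n.2
    rw [← hi, ← hj]
    exact (show Commute (⟨A, mA⟩ : M24) ⟨B, mB⟩ from Subtype.ext hcAB).zpow_zpow i j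
  let φ := MonoidHom.noncommCoprod (Subgroup.zpowers (⟨A, mA⟩ : M24)).subtype
    (Subgroup.zpowers (⟨B, mB⟩ : M24)).subtype hcom
  have hinj : Function.Injective φ := by
    rw [injective_iff_map_eq_one]
    rintro ⟨m, n⟩ h
    change (m : M24) * (n : M24) = 1 at h
    have hn : (n : M24) = 1 := by
      by_contra hn1
      have hm1 : (n : M24) ∈ Subgroup.zpowers (⟨A, mA⟩ : M24) := by
        rw [eq_inv_of_mul_eq_one_right h]; exact inv_mem m.2
      have e := (zpowers_eq_of_mem (p := 2) (by rw [Subgroup.orderOf_mk, oA]) hm1 hn1).symm.trans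
        (zpowers_eq_of_mem (p := 2) (by rw [Subgroup.orderOf_mk, oB]) n.2 hn1)
      have hB : (⟨A, mA⟩ : M24) ∈ Subgroup.zpowers (⟨B, mB⟩ : M24) := e ▸ Subgroup.mem_zpowers _
      rw [mem_zpowers_iff_mem_range_orderOf, Subgroup.orderOf_mk, oB, Finset.mem_image] at hB
      obtain ⟨i, hi, he⟩ := hB
      rw [Finset.mem_range] at hi
      interval_cases i
      · rw [pow_zero] at he
        have : A = 1 := (congrArg Subtype.val he).symm
        rw [this, orderOf_one] at oA
        omega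
      · rw [pow_one] at he
        exact hne (congrArg Subtype.val he).symm
    rw [hn, mul_one] at h
    exact Prod.ext (Subtype.ext h) (Subtype.ext hn)
  have hcard : Nat.card φ.range = 4 := by
    rw [← Nat.card_congr (MonoidHom.ofInjective hinj).toEquiv, Nat.card_prod, Nat.card_zpowers,
      Nat.card_zpowers, Subgroup.orderOf_mk, Subgroup.orderOf_mk, oA, oB]
  refine ⟨φ.range, IsPGroup.of_card (n := 2) (by rw [hcard]; norm_num), hcard, ?_⟩
  rintro _ ⟨⟨m, n⟩, rfl⟩
  obtain ⟨i, hi⟩ := m.2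
  obtain ⟨j, hj⟩ := n.2
  show Commute _ ((m : M24) * (n : M24))
  rw [← hi, ← hj]
  exact Commute.mul_right (Commute.zpow_right (show Commute _ (⟨A, mA⟩ : M24) from Subtype.ext hcA.symm) i)
    (Commute.zpow_right (show Commute _ (⟨B, mB⟩ : M24) from Subtype.ext hcB.symm) j)

end CfsgOneBlock
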