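/-
The two groups have exactly one 2-block.
-/
import Cfsg.Agent.Lib.OneBlock.Centralizers
import Cfsg.Agent.Lib.OneBlock.Elements

set_option autoImplicit false
set_option linter.style.haveILetI false

namespace CfsgOneBlock

open Cfsg CfsgGolay

attribute [local irreducible] codeL octadL dodecadL slpCodes CfsgM22Sub.eA cC CfsgGolay.r7 permDec

theorem cent_card_mk {G : Subgroup (Equiv.Perm GolayPt)} (g : Equiv.Perm GolayPt) (hg : g ∈ G) :
    Nat.card (Subgroup.centralizer ({(⟨g, hg⟩ : G)} : Set G)) =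
      Nat.card ↥(G ⊓ Subgroup.centralizer ({g} : Set (Equiv.Perm GolayPt))) :=
  cent_card_sub ⟨g, hg⟩

theorem centM_eq (g : Equiv.Perm GolayPt) :
    M24 ⊓ Subgroup.centralizer ({g} : Set (Equiv.Perm GolayPt)) = centM g := rfl

theorem no_defZero_M24 [Fintype M24] (χ : IrrCharacter M24) (d : ℕ) (hd : (χ : M24 → ℂ) 1 = d)
    (hdvd : d ∣ Nat.card M24) (h2 : 2 ^ 10 ∣ d) (hv : ∀ g : M24, 2 ∣ orderOf g → (χ : M24 → ℂ) g = 0) :
    False := by
  classical
  haveI : Fact (Nat.Prime 23) := ⟨by norm_num⟩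
  haveI : Fact (Nat.Prime 11) := ⟨by norm_num⟩
  haveI : Fact (Nat.Prime 7) := ⟨by norm_num⟩
  haveI : Fact (Nat.Prime 5) := ⟨by norm_num⟩
  haveI : Fact (Nat.Prime 2) := ⟨Nat.prime_two⟩
  have hG := card_M24
  obtain ⟨k, rfl⟩ := h2
  have hbot : ∀ u : M24, ∀ v ∈ (⊥ : Subgroup M24), Commute u v := fun u v hv' => by
    rw [Subgroup.mem_bot.1 hv']; exact Commute.one_right u
  have e23 : orderOf (⟨CfsgL223.tT, CfsgL223.mem_T⟩ : M24) = 23 := by
    rw [Subgroup.orderOf_mk, CfsgL223.order_T]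
  have b23 := prime_bound χ hv hd (p := 23) (by norm_num) e23 ⊥ IsPGroup.of_bot (hbot _) Subgroup.card_bot
    (norm_le_of_cent (m := 23) (B := 253) (by norm_num) e23 hG (by norm_num)
      (by rw [cent_card_mk, centM_eq]; exact cent24_23) (by norm_num) (by decide +kernel))
  have e11 : orderOf (⟨a11, M22_le a11_data.1⟩ : M24) = 11 := by rw [Subgroup.orderOf_mk, a11_data.2.1]
  have b11 := prime_bound χ hv hd (p := 11) (by norm_num) e11 ⊥ IsPGroup.of_bot (hbot _) Subgroup.card_bot
    (norm_le_of_cent (m := 22) (B := 110) (by norm_num) e11 hG (by norm_num)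
      (by rw [cent_card_mk, centM_eq]; exact cent24_a11) (by norm_num) (by decide +kernel))
  have e7 : orderOf (⟨r7, mem_r7⟩ : M24) = 7 := by rw [Subgroup.orderOf_mk, order_7]
  obtain ⟨s, hs⟩ := exists_prime_orderOf_dvd_card'
    (G := Subgroup.centralizer ({(⟨r7, mem_r7⟩ : M24)} : Set M24)) 2
    (by rw [cent_card_mk, centM_eq, card_cent_7]; norm_num)
  have hs' : orderOf (s : M24) = 2 := by rw [Subgroup.orderOf_coe, hs]
  have b7 := prime_bound χ hv hd (p := 7) (by norm_num) e7 (Subgroup.zpowers (s : M24))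
    (IsPGroup.of_card (n := 1) (by rw [Nat.card_zpowers, hs', pow_one]))
    (fun u hu => by
      obtain ⟨i, rfl⟩ := Subgroup.mem_zpowers_iff.1 hu
      exact (show Commute (⟨r7, mem_r7⟩ : M24) (s : M24) from
        (Subgroup.mem_centralizer_singleton_iff.1 s.2).symm).zpow_right i)
    (q := 2) (by rw [Nat.card_zpowers, hs'])
    (norm_le_of_cent (m := 42) (B := 126) (by norm_num) e7 hG (by norm_num)
      (by rw [cent_card_mk, centM_eq]; exact dvd_of_eq card_cent_7) (by norm_num) (by decide +kernel))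
  have e5 : orderOf (⟨b5, M22_le b5_data.1⟩ : M24) = 5 := by rw [Subgroup.orderOf_mk, b5_data.2.1]
  obtain ⟨Q, hQ, hQ4, hQc⟩ := v4_exists
  have b5' := prime_bound χ hv hd (p := 5) (by norm_num) e5 Q hQ hQc hQ4
    (norm_le_of_cent (m := 120) (B := 240) (by norm_num) e5 hG (by norm_num)
      (by rw [cent_card_mk, centM_eq]; exact cent24_b5) (by norm_num) (by decide +kernel))
  have htot := sum_ordSum_le χ ({1, 23, 11, 7, 5} : Finset ℕ)
  rw [Finset.sum_insert (by decide), Finset.sum_insert (by decide), Finset.sum_insert (by decide),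
    Finset.sum_insert (by decide), Finset.sum_singleton, ordSum_one χ hd] at htot
  rw [hG] at b23 b11 b7 b5' htot hdvd
  have n23 := ordSum_nonneg χ 23
  have n11 := ordSum_nonneg χ 11
  have n7 := ordSum_nonneg χ 7
  have n5 := ordSum_nonneg χ 5
  have hk : k < 16 := by
    by_contra hc
    have h16 : (16 : ℝ) ≤ (k : ℝ) := by exact_mod_cast Nat.le_of_not_lt hc
    push_cast at htot
    nlinarith
  have hkd : k ∣ 239085 :=
    Nat.dvd_of_mul_dvd_mul_left (show 0 < 2 ^ 10 by norm_num)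
      (dvd_trans hdvd (dvd_of_eq (by norm_num : (244823040 : ℕ) = 2 ^ 10 * 239085)))
  have hmem := (by decide +kernel : ∀ i < 16, i ∣ 239085 → i ∈ [1, 3, 5, 7, 9, 11, 15]) k hk hkd
  simp only [List.mem_cons, List.not_mem_nil, or_false] at hmem
  rcases hmem with rfl | rfl | rfl | rfl | rfl | rfl | rfl <;>
    norm_num at b23 b11 b7 b5' htot <;> linarith

theorem no_defZero_M22 [Fintype Spor.M22] (χ : IrrCharacter Spor.M22) (d : ℕ)
    (hd : (χ : Spor.M22 → ℂ) 1 = d) (hdvd : d ∣ Nat.card Spor.M22) (h2 : 2 ^ 7 ∣ d)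
    (hv : ∀ g : Spor.M22, 2 ∣ orderOf g → (χ : Spor.M22 → ℂ) g = 0) : False := by
  classical
  haveI : Fact (Nat.Prime 11) := ⟨by norm_num⟩
  haveI : Fact (Nat.Prime 7) := ⟨by norm_num⟩
  haveI : Fact (Nat.Prime 5) := ⟨by norm_num⟩
  haveI : Fact (Nat.Prime 3) := ⟨by norm_num⟩
  have hG := card_sporM22
  obtain ⟨k, rfl⟩ := h2
  have hbot : ∀ u : Spor.M22, ∀ v ∈ (⊥ : Subgroup Spor.M22), Commute u v := fun u v hv' => by
    rw [Subgroup.mem_bot.1 hv']; exact Commute.one_right u
  have e11 : orderOf (⟨a11, a11_data.1⟩ : Spor.M22) = 11 := by rw [Subgroup.orderOf_mk, a11_data.2.1]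
  have b11 := prime_bound χ hv hd (p := 11) (by norm_num) e11 ⊥ IsPGroup.of_bot (hbot _) Subgroup.card_bot
    (norm_le_of_cent (m := 11) (B := 55) (by norm_num) e11 hG (by norm_num)
      (by rw [cent_card_mk]; exact cent22_a11) (by norm_num) (by decide +kernel))
  obtain ⟨x, e7⟩ := exists_prime_orderOf_dvd_card' (G := Spor.M22) 7 (by rw [hG]; norm_num)
  have e7' : orderOf (x : Equiv.Perm GolayPt) = 7 := by rw [Subgroup.orderOf_coe, e7]
  have b7 := prime_bound χ hv hd (p := 7) (by norm_num) e7 ⊥ IsPGroup.of_bot (hbot _) Subgroup.card_bot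
    (norm_le_of_cent (m := 7) (B := 21) (by norm_num) e7 hG (by norm_num)
      (by rw [cent_card_sub]; exact cent22_7 x.2 e7') (by norm_num) (by decide +kernel))
  have e5 : orderOf (⟨b5, b5_data.1⟩ : Spor.M22) = 5 := by rw [Subgroup.orderOf_mk, b5_data.2.1]
  have b5' := prime_bound χ hv hd (p := 5) (by norm_num) e5 ⊥ IsPGroup.of_bot (hbot _) Subgroup.card_bot
    (norm_le_of_cent (m := 5) (B := 20) (by norm_num) e5 hG (by norm_num)
      (by rw [cent_card_mk]; exact cent22_b5) (by norm_num) (by decide +kernel))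
  have htot := sum_ordSum_le χ ({1, 11, 7, 5, 3, 9} : Finset ℕ)
  rw [Finset.sum_insert (by decide), Finset.sum_insert (by decide), Finset.sum_insert (by decide),
    Finset.sum_insert (by decide), Finset.sum_insert (by decide), Finset.sum_singleton,
    ordSum_one χ hd] at htot
  have n11 := ordSum_nonneg χ 11
  have n7 := ordSum_nonneg χ 7
  have n5 := ordSum_nonneg χ 5
  have n3 := ordSum_nonneg χ 3
  have n9 := ordSum_nonneg χ 9
  have hpos : ordSum χ 3 + ordSum χ 9 = 0 → 9 ∣ 2 ^ 7 * k := by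
    intro h0
    have hz : ∀ g : Spor.M22, orderOf g = 3 ∨ orderOf g = 9 → (χ : Spor.M22 → ℂ) g = 0 := by
      intro g hg
      have h3 : ordSum χ 3 = 0 := by linarith
      have h9 : ordSum χ 9 = 0 := by linarith
      rw [ordSum, Finset.sum_eq_zero_iff_of_nonneg (fun _ _ => Complex.normSq_nonneg _)] at h3 h9
      rcases hg with hg | hg
      · exact Complex.normSq_eq_zero.1 (h3 g (Finset.mem_filter.2 ⟨Finset.mem_univ _, hg⟩))
      · exact Complex.normSq_eq_zero.1 (h9 g (Finset.mem_filter.2 ⟨Finset.mem_univ _, hg⟩))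
    obtain ⟨S⟩ := (inferInstance : Nonempty (Sylow 3 Spor.M22))
    have hS : Nat.card (S : Subgroup Spor.M22) = 9 := by
      have h := Sylow.card_eq_multiplicity S
      rw [hG, CfsgGolay.factorization_eq (m := 443520) (p := 3) (k := 2) (q := 49280) (by norm_num)
        (by norm_num) (by norm_num)] at h
      exact h
    obtain ⟨m, ρ, hρ⟩ := exists_rep χ
    haveI : Fintype (S : Subgroup Spor.M22) := Fintype.ofFinite _
    haveI : Invertible (Nat.card (S : Subgroup Spor.M22) : ℂ) :=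
      invertibleOfNonzero (Nat.cast_ne_zero.2 Nat.card_pos.ne')
    have h := Representation.card_inv_mul_sum_char_eq_finrank
      (ρ.comp (S : Subgroup Spor.M22).subtype : Representation ℂ (S : Subgroup Spor.M22) (Fin m → ℂ))
    have hsum : ∑ g : (S : Subgroup Spor.M22),
        Representation.character (ρ.comp (S : Subgroup Spor.M22).subtype) g = ((2 ^ 7 * k : ℕ) : ℂ) := by
      have hcomp : ∀ g : (S : Subgroup Spor.M22),
          Representation.character (ρ.comp (S : Subgroup Spor.M22).subtype) g = (χ : Spor.M22 → ℂ) g := fun g => by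
        rw [← hρ]; rfl
      rw [Finset.sum_eq_single (1 : (S : Subgroup Spor.M22))]
      · rw [hcomp, Subgroup.coe_one, hd]
      · intro g _ hg
        rw [hcomp]
        refine hz _ ?_
        have hdv : orderOf (g : Spor.M22) ∣ 9 := hS ▸ Subgroup.orderOf_dvd_natCard _ g.2
        have hne : orderOf (g : Spor.M22) ≠ 1 := fun e => hg (Subtype.ext (orderOf_eq_one_iff.1 e))
        exact (by decide : ∀ e < 10, e ∣ 9 → e ≠ 1 → e = 3 ∨ e = 9) _
          (Nat.lt_succ_of_le (Nat.le_of_dvd (by norm_num) hdv)) hdv hne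
      · simp
    rw [hsum, hS, inv_mul_eq_iff_eq_mul₀ (by norm_num)] at h
    exact ⟨_, by exact_mod_cast h⟩
  rw [hG] at b11 b7 b5' htot hdvd
  have hk : k < 6 := by
    by_contra hc
    have h6 : (6 : ℝ) ≤ (k : ℝ) := by exact_mod_cast Nat.le_of_not_lt hc
    push_cast at htot
    nlinarith
  have hkd : k ∣ 3465 :=
    Nat.dvd_of_mul_dvd_mul_left (show 0 < 2 ^ 7 by norm_num)
      (dvd_trans hdvd (dvd_of_eq (by norm_num : (443520 : ℕ) = 2 ^ 7 * 3465)))
  have hmem := (by decide +kernel : ∀ i < 6, i ∣ 3465 → i ∈ [1, 3, 5]) k hk hkd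
  simp only [List.mem_cons, List.not_mem_nil, or_false] at hmem
  rcases hmem with rfl | rfl | rfl
  · norm_num at b11 b7 b5' htot; linarith
  · norm_num at b11 b7 b5' htot
    rcases (add_nonneg n3 n9).eq_or_lt with h0 | h0
    · exact absurd (hpos h0.symm) (by norm_num)
    · linarith
  · norm_num at b11 b7 b5' htot; linarith

theorem one_block_M24 {M : Ideal AlgInt} (hM : IsPModular 2 M) (χ ψ : IrrCharacter M24) :
    SameBlock M (χ : M24 → ℂ) (ψ : M24 → ℂ) := by
  classical
  letI : Fintype M24 := Fintype.ofFinite _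
  exact one_block hM card_M24_facts.1 (fun y hy => sameBlock_M24 hM y hy)
    (fun φ d hd hdvd h2 hv => no_defZero_M24 φ d hd hdvd h2 hv) χ ψ

theorem one_block_M22 {M : Ideal AlgInt} (hM : IsPModular 2 M) (χ ψ : IrrCharacter Spor.M22) :
    SameBlock M (χ : Spor.M22 → ℂ) (ψ : Spor.M22 → ℂ) := by
  classical
  letI : Fintype Spor.M22 := Fintype.ofFinite _
  exact one_block hM (a := 7) (by
      rw [card_sporM22]
      exact CfsgGolay.factorization_eq (q := 3465) Nat.prime_two (by norm_num) (by norm_num))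
    (fun y hy => sameBlock_M22 hM y hy)
    (fun φ d hd hdvd h2 hv => no_defZero_M22 φ d hd hdvd h2 hv) χ ψ

end CfsgOneBlock
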